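import Mathlib
import Groth.Agent.Lib.Helper9.UnipLie.Prim2

/-!
# The associated graded of an augmented algebra with enough derivations (helper9)

Let `A` be a `k`-algebra with augmentation `ε : A → k`, `I = ker ε`, `x_1, …, x_r ∈ I` and
derivations `D_i` with `D_i x_j ≡ δ_ij mod I`.  If `m! ≠ 0` in `k` then the monomials of degree
`m` in the `x_i` are linearly independent modulo `I ^ (m + 1)`.
-/

set_option autoImplicit false

universe u v

open MvPolynomial

namespace Groth.Agent.H9.CotGr

open Groth.Agent.H9.UnipLie

section Abstract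

variable {k : Type u} [Field k] {A : Type v} [CommRing A] [Algebra k A]

/-- a derivation maps `I ^ (m + 1)` into `I ^ m` -/
lemma derivation_mem_pow (D : Derivation k A A) (I : Ideal A) :
    ∀ (m : ℕ) (y : A), y ∈ I ^ (m + 1) → D y ∈ I ^ m := by
  intro m
  induction m with
  | zero =>
    intro y _
    rw [pow_zero, Ideal.one_eq_top]
    trivial
  | succ m ih =>
    intro y hy
    rw [pow_succ'] at hy
    refine Submodule.mul_induction_on hy ?_ ?_
    · intro a ha b hb
      rw [Derivation.leibniz, smul_eq_mul, smul_eq_mul]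
      apply Ideal.add_mem
      · rw [pow_succ']
        exact Ideal.mul_mem_mul ha (ih b hb)
      · rw [mul_comm]
        exact Ideal.mul_mem_left _ _ hb
    · intro y z hy hz
      rw [map_add]
      exact Ideal.add_mem _ hy hz

variable {r : ℕ} (ε : A →ₐ[k] k) (x : Fin r → A) (hx : ∀ i, x i ∈ RingHom.ker ε)

include hx in
/-- homogeneous polynomials of degree `m` in elements of `I` lie in `I ^ m` -/
lemma aeval_mem_pow {m : ℕ} {P : MvPolynomial (Fin r) k} (hP : P.IsHomogeneous m) :
    aeval x P ∈ (RingHom.ker ε) ^ m := by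
  classical
  rw [P.as_sum, map_sum]
  apply Ideal.sum_mem
  intro d hd
  have hdeg : d.degree = m := by
    by_contra h
    exact (MvPolynomial.mem_support_iff.mp hd) (hP.coeff_eq_zero h)
  rw [aeval_monomial, ← hdeg]
  apply Ideal.mul_mem_left
  rw [Finsupp.prod, Finsupp.degree]
  have : ∀ s : Finset (Fin r), ∏ i ∈ s, x i ^ d i ∈ (RingHom.ker ε) ^ (∑ i ∈ s, d i) := by
    intro s
    induction s using Finset.induction_on with
    | empty => simp
    | insert i s hi ih =>
      rw [Finset.prod_insert hi, Finset.sum_insert hi, pow_add]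
      exact Ideal.mul_mem_mul (Ideal.pow_mem_pow (hx i) _) ih
  exact this _

/-- a homogeneous polynomial all of whose partial derivatives vanish is zero, if its degree is
invertible enough -/
lemma eq_zero_of_pderiv_eq_zero {m : ℕ} (hm : ((m + 1).factorial : k) ≠ 0)
    {P : MvPolynomial (Fin r) k} (hP : P.IsHomogeneous (m + 1))
    (h : ∀ i, pderiv i P = 0) : P = 0 := by
  classical
  ext d
  rw [coeff_zero]
  by_cases hd : d.degree = m + 1
  · have hex : ∃ i, d i ≠ 0 := by
      by_contra hcon
      rw [not_exists] at hcon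
      have : d = 0 := Finsupp.ext fun i => not_not.mp (hcon i)
      rw [this] at hd
      simp [Finsupp.degree] at hd
    obtain ⟨i, hi⟩ := hex
    have h1 := congrArg (coeff (d - Finsupp.single i 1)) (h i)
    rw [coeff_pderiv, coeff_zero] at h1
    have h2 : d - Finsupp.single i 1 + Finsupp.single i 1 = d := by
      ext j
      by_cases hj : j = i
      · subst hj
        simp only [Finsupp.coe_add, Finsupp.coe_tsub, Pi.add_apply, Pi.sub_apply,
          Finsupp.single_eq_same]
        omega
      · simp [Finsupp.single_eq_of_ne hj]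
    rw [h2] at h1
    have h3 : ((((d - Finsupp.single i 1 : Fin r →₀ ℕ) i : ℕ) : k)) + 1 = ((d i : ℕ) : k) := by
      have : (d - Finsupp.single i 1 : Fin r →₀ ℕ) i + 1 = d i := by
        simp only [Finsupp.coe_tsub, Pi.sub_apply, Finsupp.single_eq_same]
        omega
      rw [← this]
      push_cast
      rfl
    rw [h3] at h1
    have hle : d i ≤ m + 1 := by
      rw [← hd, Finsupp.degree]
      by_cases hmem : i ∈ d.support
      · exact Finset.single_le_sum (f := fun j => d j) (fun _ _ => Nat.zero_le _) hmem
      · rw [Finsupp.notMem_support_iff] at hmem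
        omega
    have hne : ((d i : ℕ) : k) ≠ 0 := by
      intro h0
      apply hm
      obtain ⟨q, hq⟩ := Nat.dvd_factorial (Nat.pos_of_ne_zero hi) hle
      rw [hq, Nat.cast_mul, h0, zero_mul]
    exact (mul_eq_zero.mp h1).resolve_right hne
  · exact hP.coeff_eq_zero hd

variable (D : Fin r → Derivation k A A)
  (hD : ∀ i j, D i (x j) - (if i = j then 1 else 0) ∈ RingHom.ker ε)

include hx hD in
/-- monomials of degree `m` are independent modulo `I ^ (m + 1)` when `m!` is invertible -/
theorem homog_eq_zero : ∀ (m : ℕ), ((m.factorial : ℕ) : k) ≠ 0 →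
    ∀ P : MvPolynomial (Fin r) k, P.IsHomogeneous m → aeval x P ∈ (RingHom.ker ε) ^ (m + 1) →
      P = 0 := by
  intro m
  induction m with
  | zero =>
    intro _ P hP hmem
    rw [← totalDegree_zero_iff_isHomogeneous, totalDegree_eq_zero_iff_eq_C] at hP
    rw [hP, aeval_C, zero_add, pow_one, RingHom.mem_ker] at hmem
    have : ε (algebraMap k A (coeff 0 P)) = coeff 0 P := by
      rw [AlgHom.commutes]; rfl
    rw [this] at hmem
    rw [hP, hmem, map_zero]
  | succ m ih =>
    intro hm P hP hmem
    have hm' : ((m.factorial : ℕ) : k) ≠ 0 := by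
      intro h0
      apply hm
      rw [Nat.factorial_succ, Nat.cast_mul, h0, mul_zero]
    apply eq_zero_of_pderiv_eq_zero hm hP
    intro i
    apply ih hm' _ (by simpa using hP.pderiv (i := i))
    have h1 := derivation_mem_pow (D i) (RingHom.ker ε) (m + 1) _ hmem
    rw [derivation_aeval] at h1
    have h2 : ∀ j, aeval x (pderiv j P) ∈ (RingHom.ker ε) ^ m := fun j =>
      aeval_mem_pow ε x hx (by simpa using hP.pderiv (i := j))
    have h3 : ∑ j, aeval x (pderiv j P) * (D i (x j) - (if i = j then 1 else 0)) ∈
        (RingHom.ker ε) ^ (m + 1) := by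
      apply Ideal.sum_mem
      intro j _
      rw [pow_succ]
      exact Ideal.mul_mem_mul (h2 j) (hD i j)
    have h4 : aeval x (pderiv i P) =
        ∑ j, aeval x (pderiv j P) * D i (x j) -
          ∑ j, aeval x (pderiv j P) * (D i (x j) - (if i = j then 1 else 0)) := by
      rw [← Finset.sum_sub_distrib]
      simp only [mul_sub, sub_sub_cancel, mul_ite, mul_one, mul_zero]
      rw [Finset.sum_ite_eq, if_pos (Finset.mem_univ i)]
    rw [h4]
    exact Ideal.sub_mem _ h1 h3

variable (hspan : ∀ a ∈ RingHom.ker ε, ∃ c : Fin r → k, a - ∑ i, c i • x i ∈ (RingHom.ker ε) ^ 2)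

include hx hspan in
/-- every element of `I ^ m` is a homogeneous polynomial of degree `m` in the `x i` modulo
`I ^ (m + 1)` -/
theorem exists_homog_approx : ∀ (m : ℕ) (y : A), y ∈ (RingHom.ker ε) ^ m →
    ∃ P : MvPolynomial (Fin r) k, P.IsHomogeneous m ∧ y - aeval x P ∈ (RingHom.ker ε) ^ (m + 1) := by
  intro m
  induction m with
  | zero =>
    intro y _
    refine ⟨C (ε y), isHomogeneous_C _ _, ?_⟩
    rw [zero_add, pow_one, RingHom.mem_ker, map_sub, aeval_C, AlgHom.commutes]
    exact sub_self _
  | succ m ih =>
    intro y hy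
    rw [pow_succ'] at hy
    refine Submodule.mul_induction_on hy ?_ ?_
    · intro a ha b hb
      obtain ⟨c, hc⟩ := hspan a ha
      obtain ⟨Q, hQ, hbQ⟩ := ih b hb
      refine ⟨(∑ i, C (c i) * X i) * Q, ?_, ?_⟩
      · rw [add_comm]
        apply IsHomogeneous.mul _ hQ
        apply IsHomogeneous.sum
        intro i _
        exact isHomogeneous_C_mul_X _ _
      · have hL : aeval x (∑ i, C (c i) * X i) = ∑ i, c i • x i := by
          rw [map_sum]
          refine Finset.sum_congr rfl fun i _ => ?_
          rw [map_mul, aeval_C, aeval_X, Algebra.smul_def]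
        have hLmem : ∑ i, c i • x i ∈ RingHom.ker ε := by
          apply Ideal.sum_mem
          intro i _
          rw [Algebra.smul_def]
          exact Ideal.mul_mem_left _ _ (hx i)
        have h1 : a * b - aeval x ((∑ i, C (c i) * X i) * Q) =
            (a - ∑ i, c i • x i) * b + (∑ i, c i • x i) * (b - aeval x Q) := by
          rw [map_mul, hL]; ring
        rw [h1]
        apply Ideal.add_mem
        · have : m + 1 + 1 = 2 + m := by omega
          rw [this, pow_add]
          exact Ideal.mul_mem_mul hc hb
        · rw [pow_succ' _ (m + 1)]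
          exact Ideal.mul_mem_mul hLmem hbQ
    · rintro y z ⟨P, hP, hyP⟩ ⟨Q, hQ, hzQ⟩
      refine ⟨P + Q, hP.add hQ, ?_⟩
      have : y + z - aeval x (P + Q) = (y - aeval x P) + (z - aeval x Q) := by
        rw [map_add]; ring
      rw [this]
      exact Ideal.add_mem _ hyP hzQ

end Abstract

end Groth.Agent.H9.CotGr
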