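import Mathlib
import Groth.Agent.Lib.Helper9.CotGr.Basic

/-!
# Dimensions of the quotients `A / I ^ m` (helper9)
-/

set_option autoImplicit false

universe u v

open MvPolynomial

namespace Groth.Agent.H9.CotGr

section Count

variable (k : Type u) [Field k] (r m : ℕ)

/-- the dimension of the space of homogeneous polynomials -/
theorem finrank_homogeneousSubmodule :
    Module.finrank k (homogeneousSubmodule (Fin r) k m) = Nat.choose (r + m - 1) m := by
  classical
  rw [homogeneousSubmodule_eq_finsupp_supported]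
  let e := AddMonoidAlgebra.supportedEquivFinsupp (R := k) (S := k)
    ({d : Fin r →₀ ℕ | d.degree = m})
  rw [e.finrank_eq]
  let _ : Fintype ({d : Fin r →₀ ℕ | d.degree = m}) :=
    Fintype.ofFinset ((Finset.univ : Finset (Fin r)).finsuppAntidiag m) (by
      intro d
      rw [Finset.mem_finsuppAntidiag, Set.mem_ofPred_eq, Finsupp.degree_eq_sum]
      constructor
      · intro h; exact h.1
      · intro h; exact ⟨h, Finset.subset_univ _⟩)
  rw [Module.finrank_finsupp_self, Fintype.card_ofFinset,
    Finset.card_finsuppAntidiag_nat_eq_choose, Finset.card_univ, Fintype.card_fin]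

end Count

section Dim

variable {k : Type u} [Field k] {A : Type v} [CommRing A] [Algebra k A]
  {r : ℕ} (ε : A →ₐ[k] k) (x : Fin r → A) (hx : ∀ i, x i ∈ RingHom.ker ε)
  (hspan : ∀ a ∈ RingHom.ker ε, ∃ c : Fin r → k, a - ∑ i, c i • x i ∈ (RingHom.ker ε) ^ 2)

/-- the map from homogeneous polynomials of degree `m` to `A / I ^ (m + 1)` -/
noncomputable def Psi (m : ℕ) :
    homogeneousSubmodule (Fin r) k m →ₗ[k] A ⧸ (RingHom.ker ε) ^ (m + 1) :=
  (Ideal.Quotient.mkₐ k ((RingHom.ker ε) ^ (m + 1))).toLinearMap ∘ₗ (aeval x).toLinearMap ∘ₗ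
    (homogeneousSubmodule (Fin r) k m).subtype

lemma Psi_apply (m : ℕ) (P : homogeneousSubmodule (Fin r) k m) :
    Psi ε x m P = Ideal.Quotient.mk ((RingHom.ker ε) ^ (m + 1)) (aeval x (P : MvPolynomial (Fin r) k)) :=
  rfl

/-- the transition map `A / I ^ (m + 1) → A / I ^ m` -/
noncomputable def trans (m : ℕ) :
    (A ⧸ (RingHom.ker ε) ^ (m + 1)) →ₗ[k] A ⧸ (RingHom.ker ε) ^ m :=
  (Ideal.Quotient.factorₐ k (Ideal.pow_le_pow_right (Nat.le_succ m))).toLinearMap

lemma trans_mk (m : ℕ) (a : A) :
    trans ε m (Ideal.Quotient.mk _ a) = Ideal.Quotient.mk _ a := rfl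

lemma trans_surjective (m : ℕ) : Function.Surjective (trans ε m) := by
  intro z
  obtain ⟨a, rfl⟩ := Ideal.Quotient.mk_surjective z
  exact ⟨Ideal.Quotient.mk _ a, rfl⟩

include hx hspan in
lemma range_Psi (m : ℕ) : LinearMap.range (Psi ε x m) = LinearMap.ker (trans ε m) := by
  apply le_antisymm
  · rintro _ ⟨P, rfl⟩
    rw [LinearMap.mem_ker, Psi_apply, trans_mk, Ideal.Quotient.eq_zero_iff_mem]
    exact aeval_mem_pow ε x hx P.2
  · intro z hz
    obtain ⟨y, rfl⟩ := Ideal.Quotient.mk_surjective z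
    rw [LinearMap.mem_ker, trans_mk, Ideal.Quotient.eq_zero_iff_mem] at hz
    obtain ⟨P, hP, hyP⟩ := exists_homog_approx ε x hx hspan m y hz
    refine ⟨⟨P, hP⟩, ?_⟩
    rw [Psi_apply]
    exact (Ideal.Quotient.eq.mpr hyP).symm

include hx hspan in
/-- the quotients `A / I ^ m` are finite-dimensional -/
theorem finite_quot_pow : ∀ m : ℕ, Module.Finite k (A ⧸ (RingHom.ker ε) ^ m) := by
  intro m
  induction m with
  | zero =>
    have : Subsingleton (A ⧸ (RingHom.ker ε) ^ 0) := by
      rw [pow_zero, Ideal.one_eq_top]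
      exact Ideal.Quotient.subsingleton_iff.mpr rfl
    infer_instance
  | succ m ih =>
    rw [Module.finite_def]
    apply Submodule.fg_of_fg_map_of_fg_inf_ker (trans ε m)
    · rw [Submodule.map_top, LinearMap.range_eq_top.mpr (trans_surjective ε m)]
      exact Module.finite_def.mp ih
    · rw [top_inf_eq, ← range_Psi ε x hx hspan m, LinearMap.range_eq_map]
      apply Submodule.FG.map
      exact Module.finite_def.mp
        (Module.Finite.of_fg (homogeneousSubmodule_fg (Fin r) k m))

variable (D : Fin r → Derivation k A A)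
  (hD : ∀ i j, D i (x j) - (if i = j then 1 else 0) ∈ RingHom.ker ε)

include hx hD in
lemma Psi_injective (m : ℕ) (hm : ((m.factorial : ℕ) : k) ≠ 0) :
    Function.Injective (Psi ε x m) := by
  rw [← LinearMap.ker_eq_bot, LinearMap.ker_eq_bot']
  intro P hP
  rw [Psi_apply, Ideal.Quotient.eq_zero_iff_mem] at hP
  apply Subtype.ext
  exact homog_eq_zero ε x hx D hD m hm P P.2 hP

include hx hspan hD in
/-- the dimension formula -/
theorem finrank_quot_pow_succ (m : ℕ) (hm : ((m.factorial : ℕ) : k) ≠ 0) :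
    Module.finrank k (A ⧸ (RingHom.ker ε) ^ (m + 1)) =
      Module.finrank k (A ⧸ (RingHom.ker ε) ^ m) + Nat.choose (r + m - 1) m := by
  have hfin := finite_quot_pow ε x hx hspan (m + 1)
  have h1 := (trans ε m).finrank_range_add_finrank_ker
  rw [LinearMap.range_eq_top.mpr (trans_surjective ε m), finrank_top,
    ← range_Psi ε x hx hspan m,
    LinearMap.finrank_range_of_inj (Psi_injective ε x hx D hD m hm),
    finrank_homogeneousSubmodule] at h1
  exact h1.symm

end Dim

end Groth.Agent.H9.CotGr
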