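import Mathlib
import Groth.Agent.Lib.Helper9.CotGr.Dim
import Groth.Agent.Lib.Helper9.UnipLie.Conn
import Groth.Agent.Lib.Helper9.ComodCoeff

/-!
# Left-invariant derivations of a Hopf algebra and the graded ring at the identity (helper9)
-/

set_option autoImplicit false

universe u v

open TensorProduct MvPolynomial

namespace Groth.Agent.H9.CotGr

open Groth.Agent.H9 Groth.Agent.H9.UnipLie

section Hopf

variable {k : Type u} [Field k] {A : Type v} [CommRing A] [Bialgebra k A]

variable (k A) in
/-- the augmentation ideal -/
abbrev augI : Ideal A := RingHom.ker (Bialgebra.counitAlgHom k A)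

lemma mem_augI {a : A} : a ∈ augI k A ↔ CoalgebraStruct.counit (R := k) a = 0 := by
  rw [RingHom.mem_ker]; rfl

variable (k A) in
/-- projection onto the augmentation ideal -/
noncomputable def projI : A →ₗ[k] augI k A where
  toFun a := ⟨a - algebraMap k A (CoalgebraStruct.counit (R := k) a), by
    rw [mem_augI, map_sub, Bialgebra.counit_algebraMap, sub_self]⟩
  map_add' a b := by
    apply Subtype.ext
    show a + b - algebraMap k A (CoalgebraStruct.counit (R := k) (a + b)) = _
    rw [map_add, map_add]
    show _ = (a - _) + (b - _)
    ring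
  map_smul' c a := by
    apply Subtype.ext
    show c • a - algebraMap k A (CoalgebraStruct.counit (R := k) (c • a)) = _
    rw [map_smul, RingHom.id_apply]
    show _ = c • (a - _)
    rw [smul_sub, smul_eq_mul, map_mul, Algebra.smul_def c (algebraMap k A _)]

lemma projI_coe (a : A) :
    ((projI k A a : augI k A) : A) = a - algebraMap k A (CoalgebraStruct.counit (R := k) a) := rfl

lemma projI_of_mem {a : A} (ha : a ∈ augI k A) : projI k A a = ⟨a, ha⟩ := by
  apply Subtype.ext
  rw [projI_coe, mem_augI.mp ha, map_zero, sub_zero]

/-- the `ε`-derivation attached to a functional on the cotangent space -/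
noncomputable def dOf (l : (augI k A).Cotangent →ₗ[k] k) : A →ₗ[k] k :=
  l ∘ₗ ((augI k A).toCotangent.restrictScalars k) ∘ₗ projI k A

lemma dOf_apply (l : (augI k A).Cotangent →ₗ[k] k) (a : A) :
    dOf l a = l ((augI k A).toCotangent (projI k A a)) := rfl

lemma dOf_leibniz (l : (augI k A).Cotangent →ₗ[k] k) (a b : A) :
    dOf l (a * b) = CoalgebraStruct.counit (R := k) a * dOf l b +
      CoalgebraStruct.counit (R := k) b * dOf l a := by
  have hmem : ((projI k A a : augI k A) : A) * ((projI k A b : augI k A) : A) ∈ augI k A :=
    Ideal.mul_mem_left _ _ (projI k A b).2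
  have h1 : projI k A (a * b) = CoalgebraStruct.counit (R := k) a • projI k A b +
      CoalgebraStruct.counit (R := k) b • projI k A a +
      ⟨((projI k A a : augI k A) : A) * ((projI k A b : augI k A) : A), hmem⟩ := by
    apply Subtype.ext
    rw [projI_coe]
    show _ = CoalgebraStruct.counit (R := k) a • ((projI k A b : augI k A) : A) +
      CoalgebraStruct.counit (R := k) b • ((projI k A a : augI k A) : A) +
      ((projI k A a : augI k A) : A) * ((projI k A b : augI k A) : A)
    rw [projI_coe, projI_coe, Bialgebra.counit_mul, map_mul, Algebra.smul_def, Algebra.smul_def]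
    ring
  have h2 : (augI k A).toCotangent
      ⟨((projI k A a : augI k A) : A) * ((projI k A b : augI k A) : A), hmem⟩ = 0 := by
    rw [Ideal.toCotangent_eq_zero, pow_two]
    exact Ideal.mul_mem_mul (projI k A a).2 (projI k A b).2
  rw [dOf_apply, h1, map_add, map_add, h2, map_zero, add_zero]
  have h3 : ∀ (c : k) (y : augI k A), (augI k A).toCotangent (c • y) =
      c • (augI k A).toCotangent y := by
    intro c y
    exact ((augI k A).toCotangent.restrictScalars k).map_smul c y
  rw [map_add, h3, h3, map_add, map_smul, map_smul, smul_eq_mul, smul_eq_mul]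
  rfl

/-- the left-invariant derivation attached to a functional on the cotangent space -/
noncomputable def DOf (l : (augI k A).Cotangent →ₗ[k] k) : Derivation k A A :=
  Derivation.mk' (Comod.slice (dOf l) ∘ₗ CoalgebraStruct.comul (R := k) (A := A)) (by
    intro a b
    show Comod.slice (dOf l) (CoalgebraStruct.comul (R := k) (a * b)) = _
    rw [slice_comul_mul (dOf l) (dOf_leibniz l)]
    rfl)

lemma DOf_apply (l : (augI k A).Cotangent →ₗ[k] k) (a : A) :
    DOf l a = Comod.slice (dOf l) (CoalgebraStruct.comul (R := k) a) := rfl

lemma counit_DOf (l : (augI k A).Cotangent →ₗ[k] k) (a : A) :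
    CoalgebraStruct.counit (R := k) (DOf l a) = dOf l a := by
  rw [DOf_apply]
  have h1 := Comod.apply_sliceL (dOf l) (CoalgebraStruct.counit (R := k) (A := A))
    (CoalgebraStruct.comul (R := k) a)
  rw [Comod.sliceL_counit_comul] at h1
  exact h1.symm

end Hopf

section Fin

variable {k : Type u} [Field k] {A : Type v} [CommRing A] [Bialgebra k A]

/-- the augmentation ideal kills the cotangent space -/
lemma smul_cotangent (a : A) (c : (augI k A).Cotangent) :
    a • c = CoalgebraStruct.counit (R := k) a • c := by
  obtain ⟨y, rfl⟩ := Ideal.toCotangent_surjective _ c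
  have h1 : a = algebraMap k A (CoalgebraStruct.counit (R := k) a) + (projI k A a : A) := by
    rw [projI_coe]; ring
  have h2 : ((projI k A a : augI k A) : A) • (augI k A).toCotangent y = 0 := by
    rw [← map_smul, Ideal.toCotangent_eq_zero, pow_two]
    exact Ideal.mul_mem_mul (projI k A a).2 y.2
  conv_lhs => rw [h1, add_smul, h2, add_zero]
  rw [algebraMap_smul]

variable [Algebra.FiniteType k A]

/-- the cotangent space at the identity of an algebraic group is finite-dimensional -/
theorem finite_cotangent : Module.Finite k (augI k A).Cotangent := by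
  have hnoeth : IsNoetherianRing A := Algebra.FiniteType.isNoetherianRing k A
  have hfinA : Module.Finite A (augI k A).Cotangent :=
    Module.Finite.of_surjective (augI k A).toCotangent (Ideal.toCotangent_surjective _)
  obtain ⟨T, hT⟩ := Module.finite_def.mp hfinA
  rw [Module.finite_def]
  refine ⟨T, ?_⟩
  rw [eq_top_iff]
  rintro c -
  have hc : c ∈ Submodule.span A (T : Set (augI k A).Cotangent) := by rw [hT]; trivial
  induction hc using Submodule.span_induction with
  | mem t ht => exact Submodule.subset_span ht
  | zero => exact zero_mem _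
  | add y z _ _ hy hz => exact add_mem hy hz
  | smul a y _ hy =>
    rw [smul_cotangent]
    exact Submodule.smul_mem _ _ hy

/-- coordinates at the identity together with dual left-invariant derivations -/
theorem exists_data :
    ∃ (x : Fin (Module.finrank k (augI k A).Cotangent) → A)
      (D : Fin (Module.finrank k (augI k A).Cotangent) → Derivation k A A),
      (∀ i, x i ∈ RingHom.ker (Bialgebra.counitAlgHom k A)) ∧
      (∀ i j, D i (x j) - (if i = j then 1 else 0) ∈ RingHom.ker (Bialgebra.counitAlgHom k A)) ∧
      (∀ a ∈ RingHom.ker (Bialgebra.counitAlgHom k A),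
        ∃ c : Fin (Module.finrank k (augI k A).Cotangent) → k,
          a - ∑ i, c i • x i ∈ (RingHom.ker (Bialgebra.counitAlgHom k A)) ^ 2) := by
  classical
  have hfin : Module.Finite k (augI k A).Cotangent := finite_cotangent
  let b := Module.finBasis k (augI k A).Cotangent
  have hex : ∀ i, ∃ y : augI k A, (augI k A).toCotangent y = b i := fun i =>
    Ideal.toCotangent_surjective _ (b i)
  choose y hy using hex
  let x : Fin (Module.finrank k (augI k A).Cotangent) → A := fun i => (y i : A)
  have hx : ∀ i, x i ∈ RingHom.ker (Bialgebra.counitAlgHom k A) := fun i => (y i).2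
  let D : Fin (Module.finrank k (augI k A).Cotangent) → Derivation k A A :=
    fun i => DOf (b.coord i)
  refine ⟨x, D, hx, ?_, ?_⟩
  · intro i j
    rw [RingHom.mem_ker, map_sub]
    show CoalgebraStruct.counit (R := k) (DOf (b.coord i) (x j)) -
      CoalgebraStruct.counit (R := k) (if i = j then (1 : A) else 0) = 0
    rw [counit_DOf, dOf_apply, projI_of_mem (hx j)]
    have : (⟨x j, hx j⟩ : augI k A) = y j := rfl
    rw [this, hy, Module.Basis.coord_apply, Module.Basis.repr_self, Finsupp.single_apply]
    by_cases hij : i = j
    · rw [if_pos hij, if_pos hij.symm, Bialgebra.counit_one, sub_self]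
    · rw [if_neg hij, if_neg (Ne.symm hij), map_zero, sub_self]
  · intro a ha
    refine ⟨fun i => b.repr ((augI k A).toCotangent ⟨a, ha⟩) i, ?_⟩
    have hmem : ∑ i, b.repr ((augI k A).toCotangent ⟨a, ha⟩) i • x i ∈ augI k A := by
      apply Ideal.sum_mem
      intro i _
      rw [Algebra.smul_def]
      exact Ideal.mul_mem_left _ _ (hx i)
    have h1 : (augI k A).toCotangent ⟨a, ha⟩ =
        (augI k A).toCotangent ⟨_, hmem⟩ := by
      have h2 : (⟨∑ i, b.repr ((augI k A).toCotangent ⟨a, ha⟩) i • x i, hmem⟩ : augI k A) =
          ∑ i, b.repr ((augI k A).toCotangent ⟨a, ha⟩) i • y i := by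
        apply Subtype.ext
        rw [AddSubmonoidClass.coe_finsetSum]
        rfl
      rw [h2, map_sum]
      conv_lhs => rw [← b.sum_repr ((augI k A).toCotangent ⟨a, ha⟩)]
      refine Finset.sum_congr rfl fun i _ => ?_
      rw [← hy]
      exact (((augI k A).toCotangent.restrictScalars k).map_smul _ _).symm
    rw [Ideal.toCotangent_eq] at h1
    exact h1

/-- the dimension formula for the infinitesimal neighbourhoods of the identity -/
theorem finrank_quot_augI_pow_succ (n : ℕ) (hn : ((n.factorial : ℕ) : k) ≠ 0) :
    Module.finrank k (A ⧸ (augI k A) ^ (n + 1)) =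
      Module.finrank k (A ⧸ (augI k A) ^ n) +
        Nat.choose (Module.finrank k (augI k A).Cotangent + n - 1) n := by
  obtain ⟨x, D, hx, hD, hspan⟩ := exists_data (k := k) (A := A)
  exact finrank_quot_pow_succ (Bialgebra.counitAlgHom k A) x hx hspan D hD n hn

end Fin

end Groth.Agent.H9.CotGr
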