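import Mathlib
import Groth.Agent.Lib.Helper9.CotGr.Hopf
import Groth.Agent.Lib.Helper9.CocommDiag.Semisimple
import Groth.Agent.Lib.Helper9.UnipFil.MultType

/-!
# Cartier's theorem: Hopf algebras in characteristic zero are reduced (helper9)
-/

set_option autoImplicit false

universe u v

open TensorProduct MvPolynomial WithConv

namespace Groth.Agent.H9.CotGr

open Groth.Agent.H9 Groth.Agent.H9.UnipLie

section Abstract

variable {k : Type u} [Field k] [CharZero k] {A : Type v} [CommRing A] [Algebra k A]
  {r : ℕ} (ε : A →ₐ[k] k) (x : Fin r → A) (hx : ∀ i, x i ∈ RingHom.ker ε)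
  (D : Fin r → Derivation k A A)
  (hD : ∀ i j, D i (x j) - (if i = j then 1 else 0) ∈ RingHom.ker ε)
  (hspan : ∀ a ∈ RingHom.ker ε, ∃ c : Fin r → k, a - ∑ i, c i • x i ∈ (RingHom.ker ε) ^ 2)

include hx hD hspan in
/-- nilpotent elements lie in all powers of the augmentation ideal -/
theorem nilpotent_mem_pow {y : A} (hy : IsNilpotent y) : ∀ m : ℕ, y ∈ (RingHom.ker ε) ^ m := by
  intro m
  induction m with
  | zero =>
    rw [pow_zero, Ideal.one_eq_top]; trivial
  | succ m ih =>
    obtain ⟨P, hP, hyP⟩ := exists_homog_approx ε x hx hspan m y ih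
    set z := aeval x P with hz
    have hzm : z ∈ (RingHom.ker ε) ^ m := aeval_mem_pow ε x hx hP
    have hpow : ∀ N : ℕ, y ^ N - z ^ N ∈ (RingHom.ker ε) ^ (m * N + 1) := by
      intro N
      induction N with
      | zero =>
        rw [pow_zero, pow_zero, sub_self]; exact zero_mem _
      | succ N ihN =>
        have h1 : y ^ (N + 1) - z ^ (N + 1) = y ^ N * (y - z) + (y ^ N - z ^ N) * z := by ring
        rw [h1]
        apply Ideal.add_mem
        · have : m * (N + 1) + 1 = m * N + (m + 1) := by ring
          rw [this, pow_add]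
          apply Ideal.mul_mem_mul _ hyP
          rw [pow_mul]
          exact Ideal.pow_mem_pow ih N
        · have : m * (N + 1) + 1 = (m * N + 1) + m := by ring
          rw [this, pow_add]
          exact Ideal.mul_mem_mul ihN hzm
    obtain ⟨N, hN⟩ := hy
    have h2 := hpow N
    rw [hN, zero_sub, neg_mem_iff, hz, ← map_pow] at h2
    have h3 : P ^ N = 0 := by
      apply homog_eq_zero ε x hx D hD (m * N) _ (P ^ N) (hP.pow N) h2
      exact_mod_cast Nat.factorial_ne_zero _
    have h4 : P = 0 := eq_zero_of_pow_eq_zero h3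
    rw [hz, h4, map_zero, sub_zero] at hyP
    exact hyP

end Abstract

section HopfB

variable {k : Type u} [Field k] [CharZero k] {A : Type v} [CommRing A] [Bialgebra k A]
  [Algebra.FiniteType k A]

/-- nilpotent functions vanish in a neighbourhood of the identity -/
theorem exists_mul_eq_zero_of_isNilpotent {y : A} (hy : IsNilpotent y) :
    ∃ s : A, CoalgebraStruct.counit (R := k) s = 1 ∧ s * y = 0 := by
  obtain ⟨x, D, hx, hD, hspan⟩ := exists_data (k := k) (A := A)
  have h1 := nilpotent_mem_pow (Bialgebra.counitAlgHom k A) x hx D hD hspan hy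
  have hnoeth : IsNoetherianRing A := Algebra.FiniteType.isNoetherianRing k A
  have h2 : y ∈ (⨅ i : ℕ, (augI k A) ^ i • ⊤ : Submodule A A) := by
    rw [Submodule.mem_iInf]
    intro i
    rw [smul_eq_mul, Ideal.mul_top]
    exact h1 i
  obtain ⟨r, hr⟩ := (Ideal.mem_iInf_smul_pow_eq_bot_iff (augI k A) y).mp h2
  refine ⟨1 - r, ?_, ?_⟩
  · rw [map_sub, Bialgebra.counit_one, mem_augI.mp r.2, sub_zero]
  · rw [sub_mul, one_mul, ← smul_eq_mul, hr, sub_self]

end HopfB

section Transl

variable {k : Type u} [Field k] {A : Type v} [CommRing A] [HopfAlgebra k A]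

/-- right translation by a point, as an algebra map -/
noncomputable def transl (g : A →ₐ[k] k) : A →ₐ[k] A :=
  (Algebra.TensorProduct.rid k k A).toAlgHom.comp
    ((Algebra.TensorProduct.map (AlgHom.id k A) g).comp (Bialgebra.comulAlgHom k A))

lemma transl_apply (g : A →ₐ[k] k) (a : A) :
    transl g a = Comod.slice g.toLinearMap (CoalgebraStruct.comul (R := k) a) := by
  show (Algebra.TensorProduct.rid k k A) ((Algebra.TensorProduct.map (AlgHom.id k A) g)
    (CoalgebraStruct.comul (R := k) a)) = _
  generalize CoalgebraStruct.comul (R := k) a = z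
  induction z using TensorProduct.induction_on with
  | zero => simp
  | tmul a b =>
    rw [Algebra.TensorProduct.map_tmul, Algebra.TensorProduct.rid_tmul, Comod.slice_tmul]
    rfl
  | add x y hx hy => simp only [map_add, hx, hy]

lemma transl_eq_Tact (g : A →ₐ[k] k) (a : A) :
    transl g a = CocommDiag.Tact k A A (toConv g.toLinearMap) a := by
  rw [transl_apply]
  rfl

lemma counit_transl (g : A →ₐ[k] k) (a : A) :
    CoalgebraStruct.counit (R := k) (transl g a) = g a := by
  rw [transl_apply]
  have h1 := Comod.apply_sliceL g.toLinearMap (CoalgebraStruct.counit (R := k) (A := A))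
    (CoalgebraStruct.comul (R := k) a)
  rw [Comod.sliceL_counit_comul] at h1
  exact h1.symm

lemma transl_inv_transl (g : A →ₐ[k] k) (a : A) :
    transl ((toConv g : WithConv (A →ₐ[k] k))⁻¹).ofConv (transl g a) = a := by
  rw [transl_eq_Tact, transl_eq_Tact, ← Module.End.mul_apply, ← map_mul]
  have h1 : toConv ((toConv g : WithConv (A →ₐ[k] k))⁻¹).ofConv.toLinearMap *
      toConv g.toLinearMap = (1 : WithConv (A →ₗ[k] k)) := by
    have h2 := AlgHom.toLinearMap_convMul ((toConv g : WithConv (A →ₐ[k] k))⁻¹) (toConv g)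
    rw [inv_mul_cancel] at h2
    exact h2.symm
  rw [h1, map_one, Module.End.one_apply]

lemma transl_transl_inv (g : A →ₐ[k] k) (a : A) :
    transl g (transl ((toConv g : WithConv (A →ₐ[k] k))⁻¹).ofConv a) = a := by
  rw [transl_eq_Tact, transl_eq_Tact, ← Module.End.mul_apply, ← map_mul]
  have h1 : toConv g.toLinearMap *
      toConv ((toConv g : WithConv (A →ₐ[k] k))⁻¹).ofConv.toLinearMap =
        (1 : WithConv (A →ₗ[k] k)) := by
    have h2 := AlgHom.toLinearMap_convMul (toConv g) ((toConv g : WithConv (A →ₐ[k] k))⁻¹)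
    rw [mul_inv_cancel] at h2
    exact h2.symm
  rw [h1, map_one, Module.End.one_apply]

end Transl

section Cartier

variable {k : Type u} [Field k] [CharZero k] {A : Type v} [CommRing A] [HopfAlgebra k A]
  [Algebra.FiniteType k A]

/-- Cartier's theorem over an algebraically closed field -/
theorem isReduced_of_isAlgClosed [IsAlgClosed k] : IsReduced A := by
  constructor
  intro y hy
  by_contra hy0
  have hann : (Ideal.span {y}).annihilator ≠ ⊤ := by
    intro h
    have : (1 : A) ∈ (Ideal.span {y}).annihilator := by rw [h]; trivial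
    rw [Submodule.mem_annihilator] at this
    have h2 := this y (Ideal.subset_span rfl)
    rw [one_smul] at h2
    exact hy0 h2
  obtain ⟨m, hm, hle⟩ := Ideal.exists_le_maximal _ hann
  obtain ⟨g, hg⟩ := CocommDiag.exists_point_of_maximal (k := k) m
  have hny : IsNilpotent (transl g y) := hy.map (transl g)
  obtain ⟨s', hs'1, hs'y⟩ := exists_mul_eq_zero_of_isNilpotent (k := k) hny
  set s := transl ((toConv g : WithConv (A →ₐ[k] k))⁻¹).ofConv s' with hs
  have h1 : transl g s = s' := transl_transl_inv g s'
  have h2 : s * y = 0 := by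
    have h3 : transl g (s * y) = 0 := by rw [map_mul, h1, hs'y]
    have h4 := congrArg (transl ((toConv g : WithConv (A →ₐ[k] k))⁻¹).ofConv) h3
    rw [transl_inv_transl, map_zero] at h4
    exact h4
  have h3 : g s = 1 := by rw [← counit_transl, h1, hs'1]
  have h4 : s ∈ (Ideal.span {y}).annihilator := by
    rw [Submodule.mem_annihilator]
    intro z hz
    rw [Ideal.mem_span_singleton'] at hz
    obtain ⟨w, rfl⟩ := hz
    rw [smul_eq_mul, mul_comm w y, ← mul_assoc, h2, zero_mul]
  have h5 : s ∈ m := hle h4
  rw [← hg, RingHom.mem_ker] at h5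
  have h6 : g s = 0 := h5
  rw [h3] at h6
  exact one_ne_zero h6

/-- **Cartier's theorem**: a finitely generated commutative Hopf algebra over a field of
characteristic zero is reduced -/
theorem isReduced_of_charZero (k : Type u) [Field k] [CharZero k] {A : Type v} [CommRing A]
    [HopfAlgebra k A] [Algebra.FiniteType k A] : IsReduced A := by
  constructor
  intro y hy
  have hred : IsReduced (AlgebraicClosure k ⊗[k] A) := isReduced_of_isAlgClosed (k := AlgebraicClosure k)
  have h1 : IsNilpotent ((1 : AlgebraicClosure k) ⊗ₜ[k] y) := by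
    have := hy.map (Algebra.TensorProduct.includeRight (R := k) (A := AlgebraicClosure k) (B := A))
    exact this
  have h2 := hred.eq_zero _ h1
  apply UnipFil.includeRight_inj (k := k) (AlgebraicClosure k)
  rw [h2, TensorProduct.tmul_zero]

end Cartier

section Points

variable {k : Type u} [Field k] {A : Type v} [CommRing A] [Algebra k A] [Algebra.FiniteType k A]

/-- every maximal ideal of a finitely generated algebra is the kernel of a geometric point -/
theorem exists_geomPoint_of_maximal (m : Ideal A) [hm : m.IsMaximal] :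
    ∃ g : A →ₐ[k] AlgebraicClosure k, RingHom.ker g = m := by
  let _ : Field (A ⧸ m) := Ideal.Quotient.field m
  have hft : Algebra.FiniteType k (A ⧸ m) :=
    Algebra.FiniteType.of_surjective (Ideal.Quotient.mkₐ k m) (Ideal.Quotient.mkₐ_surjective k m)
  have hfin : Module.Finite k (A ⧸ m) := finite_of_finite_type_of_isJacobsonRing k (A ⧸ m)
  have halg : Algebra.IsAlgebraic k (A ⧸ m) := Algebra.IsAlgebraic.of_finite k (A ⧸ m)
  let f : (A ⧸ m) →ₐ[k] AlgebraicClosure k := IsAlgClosed.lift
  refine ⟨f.comp (Ideal.Quotient.mkₐ k m), ?_⟩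
  ext x
  rw [RingHom.mem_ker]
  show f (Ideal.Quotient.mk m x) = 0 ↔ x ∈ m
  rw [map_eq_zero_iff f f.toRingHom.injective, Ideal.Quotient.eq_zero_iff_mem]

/-- a radical ideal is determined by the geometric points it contains -/
theorem le_of_forall_geomPoint {I I' : Ideal A} (hI : I.IsRadical)
    (h : ∀ g : A →ₐ[k] AlgebraicClosure k, I ≤ RingHom.ker g → I' ≤ RingHom.ker g) : I' ≤ I := by
  have hJ : IsJacobsonRing A := isJacobsonRing_of_finiteType (A := k) (B := A)
  have hjac := hJ.out hI
  intro x hx
  rw [← hjac, Ideal.jacobson, Ideal.mem_sInf]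
  rintro m ⟨hIm, hm⟩
  obtain ⟨g, hg⟩ := exists_geomPoint_of_maximal (k := k) m
  have h1 := h g (by rw [hg]; exact hIm)
  rw [hg] at h1
  exact h1 hx

end Points

section Subgroups

variable {k : Type u} [Field k] [CharZero k] {A : Type v} [CommRing A] [HopfAlgebra k A]
  [Algebra.FiniteType k A]

/-- in characteristic zero Hopf ideals are radical -/
theorem isRadical_of_isHopfIdeal (I : Ideal A) [I.IsHopfIdeal k] : I.IsRadical := by
  have hft : Algebra.FiniteType k (A ⧸ I) :=
    Algebra.FiniteType.of_surjective (Ideal.Quotient.mkₐ k I) (Ideal.Quotient.mkₐ_surjective k I)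
  have hred : IsReduced (A ⧸ I) := isReduced_of_charZero k
  exact (Ideal.isRadical_iff_quotient_reduced I).mpr hred

/-- in characteristic zero algebraic subgroups are determined by their geometric points -/
theorem hopfIdeal_eq_of_geomPoints (I I' : Ideal A) [I.IsHopfIdeal k] [I'.IsHopfIdeal k]
    (h : ∀ g : A →ₐ[k] AlgebraicClosure k, I ≤ RingHom.ker g ↔ I' ≤ RingHom.ker g) : I = I' := by
  apply le_antisymm
  · exact le_of_forall_geomPoint (k := k) (isRadical_of_isHopfIdeal (k := k) I') (fun g hg => (h g).mpr hg)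
  · exact le_of_forall_geomPoint (k := k) (isRadical_of_isHopfIdeal (k := k) I) (fun g hg => (h g).mp hg)

end Subgroups

end Groth.Agent.H9.CotGr
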